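import Cfsg.Agent.H258.TwoB.Link
import Cfsg.Agent.H633.Ore.Co2Ore

/-!
# P3 of 2.B for `Spor.Co2`, final form (helper258)
-/

set_option autoImplicit false

namespace Cfsg.Agent.H258.TwoB

open Cfsg

/-- **P3**: the hypothesis `H` of `Cfsg.Agent.H253.TwoB.f23h_of` -/
theorem tab (l : Spor.Co2) (hl : l ≠ 1) (ho : (∃ k, orderOf l = 2 ^ k) ∨ orderOf l = 3) :
    Cfsg.Agent.H253.TwoB.F23t (Cfsg.Agent.H612.CoT.Gens.tt 0) (Cfsg.Agent.H612.CoT.Gens.tt 1) l := by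
  refine tab_of (fun g => ?_) l hl ho
  obtain ⟨w, hw, h⟩ := Cfsg.Agent.H633.Ore.Co2.cover g
  exact ⟨w, by rw [← Cfsg.Agent.H633.Ore.Co2.reps_cw]; exact hw, h⟩

end Cfsg.Agent.H258.TwoB
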