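import Cfsg.Agent.H258.TwoB.Fin
import Cfsg.Agent.H658.TwoB.Two

/-!
# P3 of 2.B in the form of helper658 (helper258)
-/

set_option autoImplicit false

namespace Cfsg.Agent.H258.TwoB

/-- the table for `Co2` -/
theorem hTab : Cfsg.Agent.H658.TwoB.HTab := tab

end Cfsg.Agent.H258.TwoB
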