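import Cfsg.Agent.H258.TwoB.Tab
import Cfsg.Agent.H633.Ore.Co2Mdl
import Cfsg.Agent.H253.TwoB.Link

/-!
# P3 of 2.B for `Spor.Co2` (helper258)

`tt_eq`: the generators of helper612 and helper633 agree; `tab_of`: the table for `Spor.Co2` from the class cover.
-/

set_option autoImplicit false
set_option maxRecDepth 1000000

namespace Cfsg.Agent.H258.TwoB

open Cfsg Cfsg.Agent.H633.Ore Cfsg.Agent.H68.Ore.Words
open Cfsg.Agent.H612.CoT.Gens (cols gg gg_rep)

theorem chkP_ok : chkP Co2.GG (idL 22) TP = true := by decide +kernel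

theorem chkQ_ok : chkQ Co2.GG (idL 22) TN = true := by decide +kernel

/-! ### the generators -/

open Cfsg.Agent.SporadicStructure.Co0Matrix (row act Ok) in
theorem act_eq {k : ℕ} {R : List (List ℤ)} (h : ∀ p q, row R p q = Cfsg.Agent.LeechMat.Elements.vec
    ((cols k).getD (Cfsg.Agent.LeechMat.Code.pos q) 0) p) (x : leechLattice) :
    act R (x : GolayPt → ℤ) = ((gg k • x : leechLattice) : GolayPt → ℤ) := by
  funext p
  have h1 := congrFun ((gg_rep k).2.2.2 x) p
  have h2 : dotInt (x : GolayPt → ℤ) (row R p) = 8 * ((gg k • x : leechLattice) : GolayPt → ℤ) p := by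
    rw [show (8 : ℤ) * ((gg k • x : leechLattice) : GolayPt → ℤ) p =
      (((8 : ℕ) : ℤ) • ((gg k • x : leechLattice) : GolayPt → ℤ)) p from rfl, ← h1]
    unfold dotInt Cfsg.Agent.LeechMat.Elements.mv
    exact Finset.sum_congr rfl fun q _ => by rw [h p q]
  show dotInt (x : GolayPt → ℤ) (row R p) / 8 = _
  rw [h2, Int.mul_ediv_cancel_left _ (by norm_num)]

theorem tt_eq (k : ℕ) : Cfsg.Agent.H612.CoT.Gens.tt k = Co2.tt k := by
  match k with
  | 0 =>
    apply Subtype.ext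
    apply Equiv.ext
    intro x
    apply Subtype.ext
    exact (act_eq (k := 0) (R := Co2D.R0) (by decide +kernel) x).symm
  | 1 =>
    apply Subtype.ext
    apply Equiv.ext
    intro x
    apply Subtype.ext
    exact (act_eq (k := 1) (R := Co2D.R1) (by decide +kernel) x).symm
  | k + 2 =>
    apply Subtype.ext
    apply Equiv.ext
    intro x
    apply Subtype.ext
    exact (act_eq (k := k + 2) (R := Co2D.R2) (by
      show ∀ p q, Cfsg.Agent.SporadicStructure.Co0Matrix.row Co2D.R2 p q = Cfsg.Agent.LeechMat.Elements.vec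
        ((cols 2).getD (Cfsg.Agent.LeechMat.Code.pos q) 0) p
      decide +kernel) x).symm

theorem exists_y : ∃ y, Co2.M.cd y = 1 := by
  obtain ⟨y, hy⟩ := Co2.M.idx_surj 0 (by show 0 < 2300; norm_num)
  refine ⟨y, ?_⟩
  rw [← Co2.M.ent_idx, hy]
  exact Co2.ent_zero

/-- **the table for `Spor.Co2`** -/
theorem tab_of (hc : ∀ g : Spor.Co2, ∃ w ∈ Cfsg.Agent.H68.Ore.Co2Words.L.map cw,
      IsConj (wd Co2.tt w) g ∨ IsConj (wd Co2.tt w)⁻¹ g) (l : Spor.Co2) (hl : l ≠ 1)
    (ho : (∃ k, orderOf l = 2 ^ k) ∨ orderOf l = 3) :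
    Cfsg.Agent.H253.TwoB.F23t (Cfsg.Agent.H612.CoT.Gens.tt 0) (Cfsg.Agent.H612.CoT.Gens.tt 1) l := by
  rw [tt_eq, tt_eq]
  exact f23t_of Co2.M Co2.rpG Co2.tt_sq exists_y chkP_ok chkQ_ok hc l hl ho

end Cfsg.Agent.H258.TwoB
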