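import Cfsg.Agent.H612.Ore.CoTwo23

/-!
# `Co2`: elements of order a power of 2 or 3 are commutators in a group containing an element of order 23 and a conjugate
# of one of the first two generators (helper258; piece P3 of `tools/plans/S2491_2B.md`)

Generic in the model `M` of `Co2`, words of helper612 / helper68.
-/

set_option autoImplicit false
set_option maxRecDepth 100000

namespace Cfsg.Agent.H258.TwoB

open Cfsg.Agent.H633.Ore Cfsg.Agent.H68.Ore.Words Cfsg.Agent.H612.Ore.CoTwo23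

/-- as `Cfsg.Agent.H253.TwoB.F23t` -/
def F23t {L : Type*} [Group L] (t0 t1 l : L) : Prop :=
  ∃ a b : L, l = a * b * a⁻¹ * b⁻¹ ∧ (∃ y ∈ Subgroup.closure ({a, b} : Set L), orderOf y = 23) ∧
    ∃ h ∈ Subgroup.closure ({a, b} : Set L), ∃ x : L, h = x * t0 * x⁻¹ ∨ h = x * t1 * x⁻¹

theorem F23t.conj {L : Type*} [Group L] {t0 t1 l : L} (h : F23t t0 t1 l) (x : L) : F23t t0 t1 (x * l * x⁻¹) := by
  obtain ⟨a, b, e, ⟨y, hy, hyr⟩, h, hh, z, hz⟩ := h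
  have key : ∀ y ∈ Subgroup.closure ({a, b} : Set L), x * y * x⁻¹ ∈
      Subgroup.closure ({x * a * x⁻¹, x * b * x⁻¹} : Set L) := by
    intro y hy
    have h1 : x * y * x⁻¹ ∈ (Subgroup.closure ({a, b} : Set L)).map (MulAut.conj x).toMonoidHom := ⟨y, hy, rfl⟩
    rw [MonoidHom.map_closure, Set.image_pair] at h1
    exact h1
  refine ⟨x * a * x⁻¹, x * b * x⁻¹, by rw [e]; group, ⟨x * y * x⁻¹, key y hy, ?_⟩, x * h * x⁻¹, key h hh, x * z, ?_⟩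
  · rw [← hyr]
    exact MulEquiv.orderOf_eq (MulAut.conj x) y
  · rcases hz with hz | hz
    · left; rw [hz]; group
    · right; rw [hz]; group

theorem F23t.inv {L : Type*} [Group L] {t0 t1 l : L} (h : F23t t0 t1 l) : F23t t0 t1 l⁻¹ := by
  obtain ⟨a, b, e, h1, h2⟩ := h
  refine ⟨b, a, by rw [e]; group, ?_, ?_⟩
  · rwa [Set.pair_comm]
  · rwa [Set.pair_comm]

/-! ### kernel functions -/

/-- `Z ^ e * cur` -/
noncomputable def pwZ {β : Sort _} (Z : List ℕ) (e : ℕ) : List ℕ → (List ℕ → β) → β :=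
  Nat.rec (fun cur k => k cur) (fun _ ih cur k => mapF (linL Z) cur fun nx => ih nx k) e

/-- lazy version -/
noncomputable def pwL (Z : List ℕ) : ℕ → List ℕ → List ℕ
  | 0, cur => cur
  | e + 1, cur => pwL Z e (cur.map (linL Z))

theorem pwZ_eq {β : Sort _} (Z : List ℕ) (e : ℕ) : ∀ (cur : List ℕ) (k : List ℕ → β), pwZ Z e cur k = k (pwL Z e cur) := by
  induction e with
  | zero => intro cur k; rfl
  | succ e ih =>
    intro cur k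
    show mapF (linL Z) cur (fun nx => pwZ Z e nx k) = _
    rw [mapF_eq, ih]
    rfl

/-- the letters `A`, `B`, `A⁻¹`, `B⁻¹` -/
def ltr (A B : List ℕ) : ℕ → List ℕ
  | 0 => A
  | 1 => B
  | 2 => A.reverse
  | _ => B.reverse

/-- the word in the generators -/
def exW (A B : List ℕ) : List ℕ → List ℕ
  | [] => []
  | c :: W => ltr A B c ++ exW A B W

/-- the check of `(W(A, B)) ^ e = x t_j x⁻¹` -/
noncomputable def chkW (gs : ℕ → List ℕ) (id : List ℕ) (A B W : List ℕ) (e j : ℕ) (x : List ℕ) : Bool :=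
  cond (Nat.blt j 2) (wF gs (exW A B W).reverse id fun Z => pwZ Z e id fun Ze =>
    wF gs (x ++ [j] ++ x.reverse).reverse id fun R => beqL Ze R) false

/-- the check of `r ^ 16 ≠ 1`, `r ^ 3 ≠ 1`, `r ^ (16 m) = 1`, `m` odd -/
noncomputable def chkN (gs : ℕ → List ℕ) (id : List ℕ) (a b : List ℕ) (m : ℕ) : Bool :=
  cond (Nat.beq (Nat.mod m 2) 1) (wF gs (cw (a, b)).reverse id fun R =>
    pwZ R 3 id fun R3 => cond (Nat.beq (linL R3 1) 1) false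
      (pwZ R 16 id fun R16 => cond (Nat.beq (linL R16 1) 1) false (pwZ R16 m id fun X => beqL X id))) false

/-- the table: `(a, b, A, B, W, e, j, x)` -/
def TP : List (List ℕ × List ℕ × List ℕ × List ℕ × List ℕ × ℕ × ℕ × List ℕ) := [
  ([2], [1, 0, 2, 0, 2, 1, 0, 1, 2, 0, 1, 0, 2, 0, 1, 2, 0, 1], [2, 1, 0, 2, 0, 2, 1, 0, 1, 2, 0, 1, 0, 2, 0, 1, 2, 0, 2, 1, 2, 1, 2, 0, 1, 2, 0, 2, 0, 2, 1, 0, 2, 0, 1, 2, 0, 2, 0, 2, 1, 0, 2], [2], [0, 1, 2, 3], 1, 0, [1, 0, 1, 2, 0, 1, 0, 1, 2, 1, 0, 2, 0, 1, 2, 0, 1]),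
  ([1], [0, 2, 1, 0, 1, 2, 0], [1, 0, 2, 1, 0, 1, 2, 0, 2, 1, 2, 1, 0, 2, 1, 2, 0, 2, 1, 2, 0, 2, 1, 2, 0, 2, 1], [1], [1], 1, 1, []),
  ([1], [0, 1, 0], [1, 0, 1, 0, 1, 0, 2, 1, 0, 1, 2, 0, 1, 0, 2, 1, 0, 1, 2, 0, 2, 1, 0, 1, 2, 1, 2, 1, 0, 1, 2, 1, 2, 1, 0, 1, 2, 1], [1], [1], 1, 1, []),
  ([1, 2], [0, 2, 0, 1, 0, 2, 0, 1], [2, 1, 2, 0, 2, 1, 0, 1, 2, 0, 2, 0, 1, 0, 1, 2, 1, 0, 1, 2, 1, 0, 2, 1, 0, 2, 1, 2, 0, 1, 2, 1, 0, 1, 0, 2, 0, 2, 1, 0, 1, 2, 0, 2, 1, 2], [2, 1, 2, 0, 2, 1, 0, 1, 2, 0, 2, 0, 1, 0, 1, 2, 1, 0, 2, 1, 0, 1, 2, 1, 0, 2, 1, 2, 1, 2, 0, 2, 1, 2, 1, 0, 2, 1, 2, 0, 1, 2, 0, 1, 2, 1, 0, 1, 0, 2, 0, 2, 1, 0, 1, 2, 0, 2, 1, 2], [0, 0, 1], 8, 0, [2, 0, 1, 2, 0, 2, 0, 2, 1, 2, 1, 0, 2, 1, 0, 2, 1]),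
  ([2], [0], [0, 1, 2, 1, 2, 0, 2, 0, 2, 1, 2, 1, 2, 0, 2, 0, 2, 1], [2], [0, 0, 3], 9, 0, [1, 0, 2, 0, 1, 2, 0, 1, 0, 2, 1, 2, 1]),
  ([1], [0, 1, 2, 0, 1, 2, 1, 2, 1, 0], [1, 0, 1, 2, 0, 1, 2, 1, 2, 1, 0, 1, 2, 0, 2, 1, 2, 0, 2, 1, 2, 0, 2, 1, 2, 0, 1, 2, 1, 2], [1], [1], 1, 1, []),
  ([2, 0, 1, 0], [1, 0, 2, 1, 2, 0, 1, 2], [1, 2, 0, 2, 1, 2, 0, 2, 1, 2, 1, 0, 1, 2, 0, 2, 0, 1, 0, 1, 0, 2, 0, 2, 0, 1, 2, 1, 0, 1, 2, 1, 2, 0, 2, 1, 2, 0, 2, 1], [1, 2, 0, 2, 1, 2, 0, 2, 1, 2, 1, 0, 1, 2, 1, 0, 1, 0, 1, 0, 2, 0, 2, 1, 2, 0, 2, 0, 1, 0, 1, 0, 1, 2, 1, 0, 1, 2, 1, 2, 0, 2, 1, 2, 0, 2, 1], [3], 1, 1, [0, 2, 0, 1, 0, 1, 2, 1, 0, 1, 2, 0, 1, 0, 2, 1, 0, 2, 0, 2, 1, 0, 2]),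
  ([1], [0, 1, 2, 1, 0, 2, 0, 2], [1, 0, 1, 2, 1, 0, 2, 0, 1, 2, 1, 2], [1], [1], 1, 1, []),
  ([2], [1, 0, 1, 2, 0, 1], [2, 1, 0, 1, 2, 0, 1], [2], [0, 3], 3, 1, [1, 2, 1, 2, 1, 0, 1, 0, 2, 1, 2, 1, 2, 0]),
  ([2], [0, 1], [2, 0, 1], [2], [0, 0, 3], 8, 0, [0, 2, 0, 2, 1, 2, 0, 1, 0, 2, 1, 0, 1, 0, 2, 0, 1, 0, 2, 1]),
  ([1], [0], [1, 0, 2, 1, 2, 1, 2, 0, 2, 0, 1, 0, 2, 0, 1, 0, 2, 0, 1, 0, 2, 0, 1], [1], [1], 1, 1, []),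
  ([2], [0, 1, 2, 0, 1, 2, 1, 2, 0, 2, 1, 0], [2, 0, 1, 2, 0, 1, 2, 1, 2, 0, 2, 1, 0, 1, 0, 1, 2, 1, 0, 1, 2, 1, 0, 2, 1, 2, 1, 2], [2], [1, 2, 1, 0], 2, 0, [1, 0, 2, 1, 2, 1, 0, 2, 1, 0, 2, 0, 2, 1, 2, 1, 0, 2]),
  ([1], [0, 1, 2, 1, 2, 1, 0, 1, 0, 2], [1, 0, 1, 2, 1, 2, 1, 0, 1, 0, 2, 1, 2, 0, 2, 1, 2, 0, 2, 1, 2, 0, 2, 1, 2, 0, 2, 1], [1], [1], 1, 1, []),
  ([0, 2], [1, 0, 1, 0], [0, 1, 0, 1, 0, 1, 0, 1, 2, 0, 2, 1, 0, 1, 0, 1, 0, 1, 2, 0, 1, 0, 1, 0, 1, 0], [1, 0, 1, 0], [1, 2], 5, 0, [1, 0, 2, 1, 2, 0, 1, 0, 1, 2, 1, 0, 2]),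
  ([1], [0, 1, 2, 0, 1, 0, 2], [1, 0, 1, 2, 0, 1, 0, 2, 1, 0, 2, 0, 1, 0, 2, 0, 1, 0, 2, 0, 1, 0, 2, 1, 0, 1, 0, 1, 0, 1], [1], [1], 1, 1, []),
  ([1], [0, 2, 0, 2], [1, 0, 2, 0, 2, 1, 2, 0, 1], [2, 0, 1], [3, 3, 3, 0], 5, 0, [1, 0, 1, 2, 1, 2, 0, 1, 0, 2, 1, 0, 2, 1]),
  ([1], [0, 1, 0, 2], [1, 0, 1, 0, 1, 2, 1, 0, 2, 1, 2, 0, 2, 1, 2, 0, 2, 1, 2, 0, 2], [1], [1], 1, 1, []),
  ([1], [2, 0, 2, 1, 0, 1, 2], [1, 2, 0, 2, 1, 0, 2, 1, 2, 1], [1], [1], 1, 1, []),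
  ([2, 0, 1, 0, 1, 0], [0, 1, 0, 2, 0, 2, 0], [0, 1, 0, 2, 0, 2, 1, 0, 2, 0, 1, 0, 2, 0, 2, 0, 1, 2, 0, 2, 0, 1, 0], [0, 1, 0, 2, 0, 2, 0, 2, 0, 1, 0, 1, 2, 0, 2, 0, 1, 0], [3], 3, 0, [0, 1, 0, 1, 0, 1, 0, 2, 0, 1]),
  ([0, 2], [1, 0, 2, 1, 0], [0, 2, 0, 1, 2, 0, 1, 0, 1, 2, 0, 1, 0, 1, 2, 0, 1, 0, 1, 2, 0, 1], [1, 0, 2, 1, 0], [1, 1, 1, 1], 2, 0, [2, 0, 2, 0, 2, 1, 2, 0, 1, 0, 2, 1, 0, 1, 0, 2, 0, 1, 0, 2, 1])]

/-- the other classes: `(a, b, m)` -/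
def TN : List (List ℕ × List ℕ × ℕ) := [
  ([1], [0, 2, 0, 1, 2, 0, 1, 0, 2], 5),
  ([2], [0, 2, 1], 5),
  ([1], [0, 2, 0, 1, 2, 1, 0, 1, 2, 0], 3),
  ([0, 2], [1, 0, 1, 0, 2, 0, 1], 3),
  ([1], [2, 0, 1, 0, 1, 2], 3),
  ([2], [0, 1, 0, 1], 3),
  ([1], [0, 1, 0, 2, 1, 0, 1, 0, 2], 3),
  ([0, 2, 1, 2], [1, 2, 1, 0, 2, 0, 2], 3),
  ([0, 1], [1, 2, 1, 2], 7),
  ([0, 1], [1, 2, 0, 2], 9),
  ([1], [0, 2, 0, 1, 2, 0, 2], 5),
  ([0, 1], [1, 2, 0, 1, 2], 5),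
  ([0, 1], [1, 2, 0, 1, 0, 1, 2], 5),
  ([0, 1], [2, 0, 2, 1, 2], 11),
  ([1], [0, 2, 0, 1, 0, 1, 2, 0, 2, 0], 3),
  ([1], [0, 2, 0, 1, 2, 0, 2, 0, 1, 2, 0], 3),
  ([1], [0, 1, 2, 0, 1, 2], 3),
  ([0, 2], [1, 0, 1, 2, 0, 2, 1], 3),
  ([1], [0, 2, 1, 2, 1, 0, 2], 3),
  ([1, 0, 1, 0], [0, 2, 1, 2], 3),
  ([0, 1, 2, 1], [1, 0, 2], 3),
  ([1], [0, 1, 2], 3),
  ([1], [0, 2, 1, 2, 0], 7),
  ([0, 2], [1, 0, 1, 0, 2, 1], 7),
  ([1, 0, 2, 0], [0, 1, 0, 2, 1], 15),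
  ([1, 0, 2, 0], [0, 1, 2], 15),
  ([1], [2, 0, 1, 2], 9),
  ([1], [0, 1, 2, 0], 5),
  ([0, 1, 2, 1, 2, 1], [1, 0, 1, 2, 1], 5),
  ([0, 1], [1, 2], 23),
  ([0, 2], [1, 0, 1, 2, 0, 1, 0], 3),
  ([1], [0, 1, 0, 2, 0], 3),
  ([1], [0, 2], 7),
  ([1], [0, 2, 0, 1, 2, 0, 1, 2], 15),
  ([0, 1], [2, 0, 1, 0, 2, 1, 2], 15)]

/-- the whole check of the first table -/
noncomputable def chkP (gs : ℕ → List ℕ) (id : List ℕ) (T : List (List ℕ × List ℕ × List ℕ × List ℕ × List ℕ × ℕ × ℕ × List ℕ)) :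
    Bool :=
  List.rec true (fun t _ ih => cond (chkI gs id t.1 t.2.1 t.2.2.1 t.2.2.2.1)
    (cond (chkW gs id t.2.2.1 t.2.2.2.1 t.2.2.2.2.1 t.2.2.2.2.2.1 t.2.2.2.2.2.2.1 t.2.2.2.2.2.2.2) ih false) false) T

/-- the whole check of the second table -/
noncomputable def chkQ (gs : ℕ → List ℕ) (id : List ℕ) (T : List (List ℕ × List ℕ × ℕ)) : Bool :=
  List.rec true (fun t _ ih => cond (chkN gs id t.1 t.2.1 t.2.2) ih false) T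

theorem T_L : ∀ p ∈ Cfsg.Agent.H68.Ore.Co2Words.L, p = ([], []) ∨ (∃ t ∈ TP, (t.1, t.2.1) = p) ∨
    ∃ t ∈ TN, (t.1, t.2.1) = p := by decide

section

variable {G : Type*} [Group G] {Y : Type*} [MulAction G Y] (M : Mdl G Y) {tt : ℕ → G} {gs : ℕ → List ℕ}

theorem rp_pwL {X : List ℕ} {g : G} (hX : M.Rp X g) (e : ℕ) : ∀ (cur : List ℕ) (h : G), M.Rp cur h →
    M.Rp (pwL X e cur) (g ^ e * h) := by
  induction e with
  | zero =>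
    intro cur h hc
    rw [pow_zero, one_mul]
    exact hc
  | succ e ih =>
    intro cur h hc
    have h1 := ih _ _ (Mdl.Rp.mul M hX hc)
    rw [pow_succ, mul_assoc]
    exact h1

theorem rp_pw {X : List ℕ} {g : G} (hX : M.Rp X g) (e : ℕ) : M.Rp (pwL X e (idL M.w)) (g ^ e) := by
  have := rp_pwL M hX e _ _ (Mdl.Rp.one M)
  rwa [mul_one] at this

theorem wd_ltr (htt : ∀ k, tt k * tt k = 1) (A B : List ℕ) (c : ℕ) :
    wd tt (ltr A B c) ∈ Subgroup.closure ({wd tt A, wd tt B} : Set G) := by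
  have hA : wd tt A ∈ Subgroup.closure ({wd tt A, wd tt B} : Set G) := Subgroup.subset_closure (Set.mem_insert _ _)
  have hB : wd tt B ∈ Subgroup.closure ({wd tt A, wd tt B} : Set G) := Subgroup.subset_closure (Set.mem_insert_of_mem _ rfl)
  match c with
  | 0 => exact hA
  | 1 => exact hB
  | 2 =>
    show wd tt A.reverse ∈ _
    rw [wd_reverse htt]; exact inv_mem hA
  | _ + 3 =>
    show wd tt B.reverse ∈ _
    rw [wd_reverse htt]; exact inv_mem hB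

theorem wd_exW (htt : ∀ k, tt k * tt k = 1) (A B W : List ℕ) :
    wd tt (exW A B W) ∈ Subgroup.closure ({wd tt A, wd tt B} : Set G) := by
  induction W with
  | nil => exact one_mem _
  | cons c W ih =>
    show wd tt (ltr A B c ++ exW A B W) ∈ _
    rw [wd_append]
    exact mul_mem (wd_ltr htt A B c) ih

/-- soundness of the second check -/
theorem soundW (hgs : ∀ k, M.Rp (gs k) (tt k)) (htt : ∀ k, tt k * tt k = 1) {A B W : List ℕ} {e j : ℕ} {x : List ℕ}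
    (h : chkW gs (idL M.w) A B W e j x = true) : ∃ h ∈ Subgroup.closure ({wd tt A, wd tt B} : Set G), ∃ x : G,
      h = x * tt 0 * x⁻¹ ∨ h = x * tt 1 * x⁻¹ := by
  unfold chkW at h
  cases hj : Nat.blt j 2
  · rw [hj] at h; exact absurd h Bool.false_ne_true
  rw [hj, cond_true, wF_eq, pwZ_eq, wF_eq] at h
  have h1 := eq_of_beqL h
  have e1 : wd tt (exW A B W) ^ e = wd tt (x ++ [j] ++ x.reverse) := by
    refine eq_of_rp M (rp_pw M (rp_wd M hgs _) e) ?_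
    rw [h1]
    exact rp_wd M hgs _
  have hj' : j < 2 := by simpa [Nat.blt_eq] using hj
  refine ⟨wd tt (exW A B W) ^ e, pow_mem (wd_exW htt A B W) e, wd tt x, ?_⟩
  have e2 : wd tt [j] = tt j := by simp [wd]
  rw [e1, wd_append, wd_append, wd_reverse htt, e2]
  interval_cases j
  · exact Or.inl rfl
  · exact Or.inr rfl

/-- soundness of the third check -/
theorem soundN (hgs : ∀ k, M.Rp (gs k) (tt k)) (hy : ∃ y : Y, M.cd y = 1) {a b : List ℕ} {m : ℕ}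
    (h : chkN gs (idL M.w) a b m = true) (ho : (∃ k, orderOf (wd tt (cw (a, b))) = 2 ^ k) ∨ orderOf (wd tt (cw (a, b))) = 3) :
    False := by
  obtain ⟨y, hy⟩ := hy
  unfold chkN at h
  cases hm : Nat.beq (Nat.mod m 2) 1
  · rw [hm] at h; exact absurd h Bool.false_ne_true
  have hR := rp_wd M hgs (cw (a, b))
  rw [hm, cond_true, wF_eq] at h
  generalize mW gs (cw (a, b)).reverse (idL M.w) = R at h hR
  generalize wd tt (cw (a, b)) = r at hR ho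
  rw [pwZ_eq, pwZ_eq, pwZ_eq] at h
  have ne : ∀ {e : ℕ}, Nat.beq (linL (pwL R e (idL M.w)) 1) 1 = false → r ^ e ≠ 1 := by
    intro e he hr
    have h8 := rp_pw M hR e y
    rw [hr, one_smul, hy] at h8
    rw [← h8] at he
    exact absurd he (by decide)
  cases h3 : Nat.beq (linL (pwL R 3 (idL M.w)) 1) 1
  swap
  · rw [h3] at h; exact absurd h Bool.false_ne_true
  cases h16 : Nat.beq (linL (pwL R 16 (idL M.w)) 1) 1
  swap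
  · rw [h3, h16] at h; exact absurd h Bool.false_ne_true
  rw [h3, h16, cond_false, cond_false] at h
  have e1 : (r ^ 16) ^ m = 1 := by
    refine eq_of_rp M (rp_pw M (rp_pw M hR 16) m) ?_
    rw [eq_of_beqL h]
    exact Mdl.Rp.one M
  rcases ho with ⟨k, ho⟩ | ho
  · apply ne h16
    rw [← pow_mul] at e1
    have h4 := orderOf_dvd_of_pow_eq_one e1
    rw [ho] at h4
    have h5 : (2 ^ k).Coprime m := by
      apply Nat.Coprime.pow_left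
      rw [Nat.coprime_two_left, Nat.odd_iff]
      exact Nat.eq_of_beq_eq_true hm
    have h6 := h5.dvd_of_dvd_mul_right h4
    rw [← ho] at h6
    exact orderOf_dvd_iff_pow_eq_one.1 h6
  · apply ne h3
    rw [← ho]
    exact pow_orderOf_eq_one r

theorem soundP (hgs : ∀ k, M.Rp (gs k) (tt k)) (htt : ∀ k, tt k * tt k = 1) (hy : ∃ y : Y, M.cd y = 1)
    {a b A B W : List ℕ} {e j : ℕ} {x : List ℕ} (h : chkI gs (idL M.w) a b A B = true)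
    (h' : chkW gs (idL M.w) A B W e j x = true) : F23t (tt 0) (tt 1) (wd tt (cw (a, b))) := by
  obtain ⟨h0, hh0, x0, hx0⟩ := soundW M hgs htt h'
  unfold chkI at h
  rw [wF_eq, wF_eq, wF_eq] at h
  cases h1 : beqL (mW gs (cw (a, b)).reverse (idL M.w)) (mW gs (cw (A, B)).reverse (idL M.w))
  · rw [h1] at h; exact absurd h Bool.false_ne_true
  rw [h1] at h
  have h1 := eq_of_beqL h1
  have e1 : wd tt (cw (a, b)) = wd tt (cw (A, B)) := by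
    refine eq_of_rp M (rp_wd M hgs _) ?_
    rw [h1]
    exact rp_wd M hgs _
  have hX := rp_wd M hgs A
  generalize mW gs A.reverse (idL M.w) = X at h hX
  cases h2 : Nat.beq (linL X 1) 1
  swap
  · rw [h2] at h; exact absurd h Bool.false_ne_true
  rw [h2] at h
  obtain ⟨X', e3, h3⟩ := rp_pow M hX (β := Bool) fun X23 => beqL X23 (idL M.w)
  have h4 : beqL X' (idL M.w) = true := by rw [← e3]; exact h
  have h5 : (wd tt A) ^ 23 = 1 := by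
    refine eq_of_rp M h3 ?_
    rw [eq_of_beqL h4]
    exact Mdl.Rp.one M
  have h6 : wd tt A ≠ 1 := by
    intro h7
    obtain ⟨y, hy⟩ := hy
    have h8 := hX y
    rw [h7, one_smul, hy] at h8
    rw [← h8] at h2
    exact absurd h2 (by decide)
  have : Fact (Nat.Prime 23) := ⟨by norm_num⟩
  exact ⟨wd tt A, wd tt B, by rw [e1, wd_cw htt], ⟨wd tt A, Subgroup.subset_closure (Set.mem_insert _ _),
    orderOf_eq_prime h5 h6⟩, h0, hh0, x0, hx0⟩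

/-- **the conclusion from the class cover** -/
theorem f23t_of (hgs : ∀ k, M.Rp (gs k) (tt k)) (htt : ∀ k, tt k * tt k = 1) (hy : ∃ y : Y, M.cd y = 1)
    (hP : chkP gs (idL M.w) TP = true) (hQ : chkQ gs (idL M.w) TN = true)
    (hc : ∀ g : G, ∃ w ∈ Cfsg.Agent.H68.Ore.Co2Words.L.map cw, IsConj (wd tt w) g ∨ IsConj (wd tt w)⁻¹ g) (l : G)
    (hl : l ≠ 1) (ho : (∃ k, orderOf l = 2 ^ k) ∨ orderOf l = 3) : F23t (tt 0) (tt 1) l := by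
  have keyP : ∀ T : List (List ℕ × List ℕ × List ℕ × List ℕ × List ℕ × ℕ × ℕ × List ℕ), chkP gs (idL M.w) T = true →
      ∀ t ∈ T, chkI gs (idL M.w) t.1 t.2.1 t.2.2.1 t.2.2.2.1 = true ∧
        chkW gs (idL M.w) t.2.2.1 t.2.2.2.1 t.2.2.2.2.1 t.2.2.2.2.2.1 t.2.2.2.2.2.2.1 t.2.2.2.2.2.2.2 = true := by
    intro T
    induction T with
    | nil => intro _ t ht; exact absurd ht List.not_mem_nil
    | cons s T ih =>
      intro h t ht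
      have h' : cond (chkI gs (idL M.w) s.1 s.2.1 s.2.2.1 s.2.2.2.1)
        (cond (chkW gs (idL M.w) s.2.2.1 s.2.2.2.1 s.2.2.2.2.1 s.2.2.2.2.2.1 s.2.2.2.2.2.2.1 s.2.2.2.2.2.2.2)
          (chkP gs (idL M.w) T) false) false = true := h
      cases h1 : chkI gs (idL M.w) s.1 s.2.1 s.2.2.1 s.2.2.2.1
      · rw [h1] at h'; exact absurd h' Bool.false_ne_true
      cases h2 : chkW gs (idL M.w) s.2.2.1 s.2.2.2.1 s.2.2.2.2.1 s.2.2.2.2.2.1 s.2.2.2.2.2.2.1 s.2.2.2.2.2.2.2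
      · rw [h1, h2] at h'; exact absurd h' Bool.false_ne_true
      rw [h1, h2] at h'
      rcases List.mem_cons.1 ht with h3 | h3
      · rw [h3]; exact ⟨h1, h2⟩
      · exact ih h' t h3
  have keyQ : ∀ T : List (List ℕ × List ℕ × ℕ), chkQ gs (idL M.w) T = true →
      ∀ t ∈ T, chkN gs (idL M.w) t.1 t.2.1 t.2.2 = true := by
    intro T
    induction T with
    | nil => intro _ t ht; exact absurd ht List.not_mem_nil
    | cons s T ih =>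
      intro h t ht
      have h' : cond (chkN gs (idL M.w) s.1 s.2.1 s.2.2) (chkQ gs (idL M.w) T) false = true := h
      cases h1 : chkN gs (idL M.w) s.1 s.2.1 s.2.2
      · rw [h1] at h'; exact absurd h' Bool.false_ne_true
      rw [h1] at h'
      rcases List.mem_cons.1 ht with h3 | h3
      · rw [h3]; exact h1
      · exact ih h' t h3
  obtain ⟨w, hw, hg⟩ := hc l
  obtain ⟨p, hp, rfl⟩ := List.mem_map.1 hw
  have hor : orderOf (wd tt (cw p)) = orderOf l := by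
    rcases hg with hg | hg
    · obtain ⟨x, rfl⟩ := isConj_iff.1 hg
      exact (MulEquiv.orderOf_eq (MulAut.conj x) (wd tt (cw p))).symm
    · obtain ⟨x, rfl⟩ := isConj_iff.1 hg
      rw [← orderOf_inv (wd tt (cw p))]
      exact (MulEquiv.orderOf_eq (MulAut.conj x) (wd tt (cw p))⁻¹).symm
  rcases T_L p hp with h1 | ⟨t, ht, h1⟩ | ⟨t, ht, h1⟩
  · exfalso
    have h2 : wd tt (cw p) = 1 := by rw [h1]; rfl
    rw [h2] at hg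
    apply hl
    rcases hg with hg | hg
    · rwa [isConj_one_right] at hg
    · rwa [inv_one, isConj_one_right] at hg
  · have h2 := soundP M hgs htt hy (keyP TP hP t ht).1 (keyP TP hP t ht).2
    rw [h1] at h2
    rcases hg with hg | hg
    · obtain ⟨x, rfl⟩ := isConj_iff.1 hg
      exact F23t.conj h2 x
    · obtain ⟨x, rfl⟩ := isConj_iff.1 hg
      exact F23t.conj (F23t.inv h2) x
  · exfalso
    refine soundN M hgs hy (keyQ TN hQ t ht) ?_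
    rw [h1, hor]
    exact ho

end

end Cfsg.Agent.H258.TwoB
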